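import Mathlib

/-!
# An identity for elementary symmetric functions of `x_a y + z` (helper16)
-/

set_option autoImplicit false

namespace Groth.Agent.Lib.Helper16.ElemExtFil

open Finset Polynomial

variable {R : Type*} [CommRing R]

theorem prod_X_add_C_mul_add (t : Multiset R) (y z : R) :
    ((t.map (fun x => x * y + z)).map (fun r => X + C r)).prod =
      ∑ j ∈ range (Multiset.card t + 1),
        C (t.esymm j * y ^ j) * (X + C z) ^ (Multiset.card t - j) := by
  have h1 := Multiset.prod_X_add_C_eq_sum_esymm (t.map (fun x => x * y))
  have h2 := congrArg (fun p => p.comp (X + C z)) h1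
  simp only [Polynomial.multiset_prod_comp, Multiset.map_map, Multiset.card_map] at h2
  have h3 : ((t.map (fun x => x * y + z)).map (fun r => X + C r)).prod =
      (t.map ((fun p : R[X] => p.comp (X + C z)) ∘ (fun r => X + C r) ∘ fun x => x * y)).prod := by
    rw [Multiset.map_map]
    congr 1
    apply Multiset.map_congr rfl
    intro x _
    simp only [Function.comp_apply, add_comp, X_comp, C_comp, map_add]
    ring
  rw [h3, h2]
  rw [Polynomial.sum_comp]
  refine Finset.sum_congr rfl fun j _ => ?_
  rw [mul_comp, C_comp, pow_comp, X_comp]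
  congr 2
  have h4 := Multiset.pow_smul_esymm y j t
  simp only [smul_eq_mul] at h4
  rw [mul_comm, h4]
  congr 1
  apply Multiset.map_congr rfl
  intro x _
  exact mul_comm _ _

theorem esymm_map_mul_add (t : Multiset R) (y z : R) (N : ℕ) :
    (t.map (fun x => x * y + z)).esymm N =
      ∑ i ∈ range (N + 1),
        t.esymm i * y ^ i * z ^ (N - i) * ((Multiset.card t - i).choose (N - i) : R) := by
  set n := Multiset.card t with hn
  by_cases hN : N ≤ n
  · have h1 := Multiset.prod_X_add_C_coeff (t.map (fun x => x * y + z)) (k := n - N)
      (by rw [Multiset.card_map]; omega)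
    rw [Multiset.card_map, ← hn, Nat.sub_sub_self hN] at h1
    rw [← h1, prod_X_add_C_mul_add, finsetSum_coeff]
    simp only [coeff_C_mul, coeff_X_add_C_pow]
    rw [← hn]
    have hsplit : range (n + 1) = range (N + 1) ∪ (range (n + 1) \ range (N + 1)) := by
      rw [Finset.union_sdiff_of_subset]
      exact Finset.range_subset_range.mpr (by omega)
    rw [hsplit, Finset.sum_union Finset.disjoint_sdiff]
    have hz : ∑ j ∈ range (n + 1) \ range (N + 1),
        t.esymm j * y ^ j * (z ^ (n - j - (n - N)) * ((n - j).choose (n - N) : R)) = 0 := by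
      refine Finset.sum_eq_zero fun j hj => ?_
      rw [Finset.mem_sdiff, Finset.mem_range, Finset.mem_range] at hj
      rw [Nat.choose_eq_zero_of_lt (by omega), Nat.cast_zero, mul_zero, mul_zero]
    rw [hz, add_zero]
    refine Finset.sum_congr rfl fun j hj => ?_
    have hj' := Finset.mem_range.mp hj
    have e1 : n - j - (n - N) = N - j := by omega
    have e2 : (n - j).choose (n - N) = (n - j).choose (N - j) := by
      rw [← Nat.choose_symm (by omega : n - N ≤ n - j)]
      congr 1
    rw [e1, e2]
    ring
  · have hlt : n < N := by omega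
    have h0 : (t.map (fun x => x * y + z)).esymm N = 0 := by
      rw [Multiset.esymm, Multiset.powersetCard_eq_empty N (by rw [Multiset.card_map]; omega)]
      simp
    rw [h0]
    symm
    refine Finset.sum_eq_zero fun i hi => ?_
    by_cases hi' : i ≤ n
    · rw [Nat.choose_eq_zero_of_lt (by omega), Nat.cast_zero, mul_zero]
    · have : t.esymm i = 0 := by
        rw [Multiset.esymm, Multiset.powersetCard_eq_empty i (by omega)]
        simp
      rw [this, zero_mul, zero_mul, zero_mul]

end Groth.Agent.Lib.Helper16.ElemExtFil
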