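import Groth.Agent.Lib.Helper16.ElemExtFil.Key

/-!
# The γ-filtration of an elementary extension `K → L = K[ℓ]` (helper16)

`F^k L = Σ_{i ≤ r} F^{k-i} K · (ℓ - 1)^i`.
-/

set_option autoImplicit false
universe u

namespace Groth.Agent.Lib.Helper16.ElemExtFil

open LambdaRing Finset
open Groth.Agent.Lib.Helper41.AdamsGamma Groth.Agent.Lib.Helper41.LambdaSplit
open Groth.Agent.Lib.Helper16

variable {K : Type u} [CommRing K] [LambdaOps K] (P : PosStructure K)
variable {L : Type u} [CommRing L]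
variable (f : K →+* L) (ℓ : L)

section Gfil

/-- the candidate filtration: generated by `f(F^{k-i}K)·(ℓ-1)^i`, all `i`. -/
def Gfil (k : ℕ) : AddSubgroup L :=
  AddSubgroup.closure {y | ∃ (i : ℕ) (b : K), b ∈ gammaFiltration P (k - i) ∧ y = f b * (ℓ - 1) ^ i}

variable {P f ℓ}

theorem gen_mem_Gfil {k i : ℕ} {b : K} (hb : b ∈ gammaFiltration P (k - i)) :
    f b * (ℓ - 1) ^ i ∈ Gfil P f ℓ k :=
  AddSubgroup.subset_closure ⟨i, b, hb, rfl⟩

theorem Gfil_antitone {k k' : ℕ} (h : k ≤ k') : Gfil P f ℓ k' ≤ Gfil P f ℓ k := by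
  rw [Gfil, AddSubgroup.closure_le]
  rintro y ⟨i, b, hb, rfl⟩
  exact gen_mem_Gfil (gammaFiltration_antitone P (by omega) hb)

theorem mul_mem_Gfil {a b : ℕ} {x y : L} (hx : x ∈ Gfil P f ℓ a) (hy : y ∈ Gfil P f ℓ b) :
    x * y ∈ Gfil P f ℓ (a + b) := by
  unfold Gfil at hx hy
  induction hx using AddSubgroup.closure_induction with
  | mem x hx =>
    obtain ⟨i, c, hc, rfl⟩ := hx
    induction hy using AddSubgroup.closure_induction with
    | mem y hy =>
      obtain ⟨j, d, hd, rfl⟩ := hy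
      have e1 : f c * (ℓ - 1) ^ i * (f d * (ℓ - 1) ^ j) = f (c * d) * (ℓ - 1) ^ (i + j) := by
        rw [map_mul, pow_add]; ring
      rw [e1]
      exact gen_mem_Gfil (gammaFiltration_antitone P (by omega) (mul_mem P hc hd))
    | zero => rw [mul_zero]; exact zero_mem _
    | add y z _ _ hy hz => rw [mul_add]; exact add_mem hy hz
    | neg y _ hy => rw [mul_neg]; exact neg_mem hy
  | zero => rw [zero_mul]; exact zero_mem _
  | add x z _ _ hx hz => rw [add_mul]; exact add_mem hx hz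
  | neg x _ hx => rw [neg_mul]; exact neg_mem hx

theorem map_mem_Gfil {k : ℕ} {b : K} (hb : b ∈ gammaFiltration P k) : f b ∈ Gfil P f ℓ k := by
  have h := gen_mem_Gfil (f := f) (ℓ := ℓ) (k := k) (i := 0) (b := b) (by rwa [Nat.sub_zero])
  rwa [pow_zero, mul_one] at h

theorem one_mem_Gfil : (1 : L) ∈ Gfil P f ℓ 0 := by
  have h := map_mem_Gfil (f := f) (ℓ := ℓ) (one_mem_gammaFiltration_zero P (1 : K))
  rwa [map_one] at h

theorem sub_one_mem_Gfil : ℓ - 1 ∈ Gfil P f ℓ 1 := by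
  have h := gen_mem_Gfil (f := f) (ℓ := ℓ) (k := 1) (i := 1) (b := 1)
    (one_mem_gammaFiltration_zero P (1 : K))
  rwa [map_one, one_mul, pow_one] at h

theorem pow_mem_Gfil {k : ℕ} {x : L} (hx : x ∈ Gfil P f ℓ k) (n : ℕ) :
    x ^ n ∈ Gfil P f ℓ (n * k) := by
  induction n with
  | zero => rw [zero_mul, pow_zero]; exact one_mem_Gfil
  | succ n ih =>
    rw [pow_succ, Nat.succ_mul]
    exact mul_mem_Gfil ih hx

theorem mul_natCast_mem_Gfil {k : ℕ} {x : L} (hx : x ∈ Gfil P f ℓ k) (c : ℕ) :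
    x * (c : L) ∈ Gfil P f ℓ k := by
  rw [← nsmul_eq_mul']
  exact nsmul_mem hx c

theorem line_mem_Gfil : ℓ ∈ Gfil P f ℓ 0 := by
  have h : (1 : L) + (ℓ - 1) ∈ Gfil P f ℓ 0 :=
    add_mem one_mem_Gfil (Gfil_antitone (Nat.zero_le 1) sub_one_mem_Gfil)
  have e : (1 : L) + (ℓ - 1) = ℓ := by ring
  rwa [e] at h

theorem line_pow_mem_Gfil (j : ℕ) : ℓ ^ j ∈ Gfil P f ℓ 0 := by
  have h := pow_mem_Gfil (line_mem_Gfil (P := P) (f := f) (ℓ := ℓ)) j
  rwa [mul_zero] at h

theorem line_pow_sub_one_mem_Gfil (j : ℕ) : ℓ ^ j - 1 ∈ Gfil P f ℓ 1 := by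
  rw [← geom_sum_mul]
  have h1 : ∑ i ∈ range j, ℓ ^ i ∈ Gfil P f ℓ 0 :=
    sum_mem fun i _ => line_pow_mem_Gfil i
  have h := mul_mem_Gfil h1 (sub_one_mem_Gfil (P := P) (f := f) (ℓ := ℓ))
  rwa [zero_add] at h

end Gfil

section Good

variable [LambdaOps L] {PL : PosStructure L}
variable {P f ℓ}

/-- `x` is good when all `γ^N(x - ε x)` lie in the candidate filtration. -/
def Good (P : PosStructure K) (PL : PosStructure L) (f : K →+* L) (ℓ : L) (x : L) : Prop :=
  ∀ N : ℕ, gamma N (x - (PL.aug x : L)) ∈ Gfil P f ℓ N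

theorem good_zero : Good P PL f ℓ (0 : L) := by
  intro N
  rw [map_zero, Int.cast_zero, sub_zero]
  rcases N with _ | N
  · rw [gamma_zero]; exact one_mem_Gfil
  · rw [gamma_of_zero (N + 1) (by omega)]; exact zero_mem _

theorem good_add {x y : L} (hx : Good P PL f ℓ x) (hy : Good P PL f ℓ y) :
    Good P PL f ℓ (x + y) := by
  intro N
  have e : x + y - (PL.aug (x + y) : L) = (x - (PL.aug x : L)) + (y - (PL.aug y : L)) := by
    rw [map_add, Int.cast_add]; ring
  rw [e, gamma_add]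
  refine sum_mem fun i hi => ?_
  have hi' : i ≤ N := Nat.lt_succ_iff.mp (mem_range.mp hi)
  have h := mul_mem_Gfil (hx i) (hy (N - i))
  rwa [Nat.add_sub_cancel' hi'] at h

theorem good_neg {x : L} (hx : Good P PL f ℓ x) : Good P PL f ℓ (-x) := by
  have e : -x - (PL.aug (-x) : L) = -(x - (PL.aug x : L)) := by
    rw [map_neg, Int.cast_neg]; ring
  intro N
  rw [e]
  set z := x - (PL.aug x : L) with hz
  induction N using Nat.strong_induction_on with
  | _ N ih =>
    rcases N with _ | N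
    · rw [gamma_zero]; exact one_mem_Gfil
    · have h := gamma_add (N + 1) z (-z)
      rw [add_neg_cancel, gamma_of_zero (N + 1) (by omega), Finset.sum_range_succ', gamma_zero,
        one_mul, Nat.sub_zero] at h
      have h2 : gamma (N + 1) (-z) =
          -∑ i ∈ range (N + 1), gamma (i + 1) z * gamma (N + 1 - (i + 1)) (-z) := by
        rw [eq_neg_iff_add_eq_zero, add_comm]
        exact h.symm
      rw [h2]
      refine neg_mem (sum_mem fun i hi => ?_)
      have hi' : i < N + 1 := mem_range.mp hi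
      have h3 := mul_mem_Gfil (hx (i + 1)) (ih (N + 1 - (i + 1)) (by omega))
      have e2 : i + 1 + (N + 1 - (i + 1)) = N + 1 := by omega
      rwa [e2] at h3

theorem good_sum {ι : Type*} (s : Finset ι) (g : ι → L) (h : ∀ i ∈ s, Good P PL f ℓ (g i)) :
    Good P PL f ℓ (∑ i ∈ s, g i) := by
  classical
  induction s using Finset.induction_on with
  | empty => rw [Finset.sum_empty]; exact good_zero
  | insert a s ha ih =>
    rw [Finset.sum_insert ha]
    exact good_add (h a (Finset.mem_insert_self a s)) (ih fun i hi => h i (Finset.mem_insert_of_mem hi))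

variable (hf : IsExtension P PL f) (hL : HasSplitting L PL) (hℓ : PL.IsLine ℓ)

include hf hL hℓ in
theorem good_gen (b : K) (hb : b ∈ P.pos) (j : ℕ) : Good P PL f ℓ (f b * ℓ ^ j) := by
  intro N
  have hv : PL.IsLine (ℓ ^ j) := isLine_pow PL hℓ j
  have haug : (PL.aug (f b * ℓ ^ j) : L) = ((P.aug b).toNat : L) := by
    rw [map_mul, hv.2, mul_one, hf.aug_comp]
    have h1 : ((P.aug b).toNat : ℤ) = P.aug b := Int.toNat_of_nonneg (P.aug_pos b hb).le
    rw [← h1, Int.cast_natCast, Int.toNat_natCast]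
  rw [haug, gamma_map_mul_line_sub hf hL b hb (ℓ ^ j) hv N]
  refine sum_mem fun i hi => ?_
  have hi' : i ≤ N := Nat.lt_succ_iff.mp (mem_range.mp hi)
  apply mul_natCast_mem_Gfil
  have h1 : f (gamma i (b - ((P.aug b).toNat : K))) ∈ Gfil P f ℓ i := by
    apply map_mem_Gfil
    rcases i with _ | i
    · exact one_mem_gammaFiltration_zero P _
    · apply gamma_mem_gammaFiltration P _ _ _ (by omega)
      have h1 : ((P.aug b).toNat : ℤ) = P.aug b := Int.toNat_of_nonneg (P.aug_pos b hb).le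
      rw [map_sub, map_natCast, h1, sub_self]
  have h2 : (ℓ ^ j) ^ i ∈ Gfil P f ℓ 0 := by
    rw [← pow_mul]; exact line_pow_mem_Gfil _
  have h3 : (ℓ ^ j - 1) ^ (N - i) ∈ Gfil P f ℓ (N - i) := by
    have := pow_mem_Gfil (line_pow_sub_one_mem_Gfil (P := P) (f := f) (ℓ := ℓ) j) (N - i)
    rwa [mul_one] at this
  have h4 := mul_mem_Gfil (mul_mem_Gfil h1 h2) h3
  have e : i + 0 + (N - i) = N := by omega
  rwa [e] at h4

variable (hgen : ∀ y : L, ∃ (a : ℕ → K) (d : ℕ), y = ∑ j ∈ range d, f (a j) * ℓ ^ j)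

include hf hL hℓ hgen in
theorem good_all (y : L) : Good P PL f ℓ y := by
  obtain ⟨a, d, rfl⟩ := hgen y
  refine good_sum _ _ fun j _ => ?_
  obtain ⟨e, e', he, he', hee⟩ := P.exists_sub (a j)
  have h1 : f (a j) * ℓ ^ j = f e * ℓ ^ j + -(f e' * ℓ ^ j) := by
    rw [hee, map_sub]; ring
  rw [h1]
  exact good_add (good_gen hf hL hℓ e he j) (good_neg (good_gen hf hL hℓ e' he' j))

include hf hL hℓ hgen in
theorem gamma_mem_Gfil (x : L) (hx : PL.aug x = 0) (N : ℕ) : gamma N x ∈ Gfil P f ℓ N := by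
  have h := good_all hf hL hℓ hgen x N
  rwa [hx, Int.cast_zero, sub_zero] at h

include hf hL hℓ hgen in
theorem list_prod_mem_Gfil (l : List (ℕ × L)) (hl : ∀ p ∈ l, PL.aug p.2 = 0) :
    (l.map fun p => gamma p.1 p.2).prod ∈ Gfil P f ℓ (l.map Prod.fst).sum := by
  induction l with
  | nil => simpa using one_mem_Gfil (P := P) (f := f) (ℓ := ℓ)
  | cons p l ih =>
    simp only [List.map_cons, List.prod_cons, List.sum_cons]
    exact mul_mem_Gfil (gamma_mem_Gfil hf hL hℓ hgen p.2 (hl p List.mem_cons_self) p.1)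
      (ih fun q hq => hl q (List.mem_cons_of_mem _ hq))

omit [LambdaOps L] in
include hgen in
theorem Gfil_zero_eq_top : Gfil P f ℓ 0 = ⊤ := by
  rw [eq_top_iff]
  intro y _
  obtain ⟨a, d, rfl⟩ := hgen y
  refine sum_mem fun j _ => ?_
  have h := mul_mem_Gfil (map_mem_Gfil (f := f) (ℓ := ℓ) (one_mem_gammaFiltration_zero P (a j)))
    (line_pow_mem_Gfil (P := P) (f := f) (ℓ := ℓ) j)
  rwa [add_zero] at h

include hf hL hℓ hgen in
/-- `F^k L ⊆` the candidate filtration. -/
theorem gammaFiltration_le_Gfil (k : ℕ) : gammaFiltration PL k ≤ Gfil P f ℓ k := by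
  rcases Nat.eq_zero_or_pos k with rfl | hk
  · rw [Gfil_zero_eq_top hgen]; exact le_top
  · unfold gammaFiltration
    rw [if_neg (by omega), AddSubgroup.closure_le]
    rintro y ⟨l, hl, hsum, rfl⟩
    exact Gfil_antitone hsum (list_prod_mem_Gfil hf hL hℓ hgen l hl)

end Good

section Main

variable [LambdaOps L] {PL : PosStructure L}
variable {P f ℓ}

/-- an extension of λ-rings preserves the γ-filtration. -/
theorem map_mem_gammaFiltration (hf : IsExtension P PL f) {j : ℕ} {b : K}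
    (hb : b ∈ gammaFiltration P j) : f b ∈ gammaFiltration PL j := by
  rcases Nat.eq_zero_or_pos j with rfl | hj
  · exact one_mem_gammaFiltration_zero PL _
  · unfold gammaFiltration at hb ⊢
    rw [if_neg (by omega)] at hb ⊢
    induction hb using AddSubgroup.closure_induction with
    | mem y hy =>
      obtain ⟨l, hl, hsum, rfl⟩ := hy
      apply AddSubgroup.subset_closure
      refine ⟨l.map fun p => (p.1, f p.2), ?_, ?_, ?_⟩
      · intro p hp
        obtain ⟨q, hq, rfl⟩ := List.mem_map.mp hp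
        show PL.aug (f q.2) = 0
        rw [hf.aug_comp, hl q hq]
      · rw [List.map_map]
        exact hsum
      · rw [map_list_prod, List.map_map, List.map_map]
        congr 1
        apply List.map_congr_left
        intro p _
        simp only [Function.comp_apply]
        exact gamma_map f hf.isLambdaHom p.1 p.2
    | zero => rw [map_zero]; exact zero_mem _
    | add x y _ _ hx hy => rw [map_add]; exact add_mem hx hy
    | neg x _ hx => rw [map_neg]; exact neg_mem hx

variable (e : K) (he : e ∈ P.pos) (r : ℕ) (hr : P.aug e = r + 1)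
  (hrel : ∑ i ∈ range ((P.aug e).toNat + 1),
    f ((-1 : K) ^ i * LambdaOps.lam i e) * ℓ ^ ((P.aug e).toNat - i) = 0)

omit [LambdaOps L] in
include he hr hrel in
/-- the relation `(ℓ-1)^{r+1} = Σ_{i ≤ r} f(c_i) (ℓ-1)^{r-i}` with `c_i ∈ F^{i+1} K`. -/
theorem exists_rel : ∃ c : ℕ → K, (∀ i, c i ∈ gammaFiltration P (i + 1)) ∧
    (ℓ - 1) ^ (r + 1) = ∑ i ∈ range (r + 1), f (c i) * (ℓ - 1) ^ (r - i) := by
  have hm : (P.aug e).toNat = r + 1 := by rw [hr]; exact Int.toNat_natCast (r + 1)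
  rw [hm] at hrel
  have hlam : ∀ i, r + 1 < i → LambdaOps.lam i e = 0 := by
    intro i hi
    apply P.lam_eq_zero e he i
    rw [hr]
    exact_mod_cast hi
  have hid := congrArg (Polynomial.eval₂ f (1 - ℓ)) (gamma_sub_aug_identity P e (r + 1) hlam)
  simp only [Polynomial.eval₂_finsetSum, Polynomial.eval₂_mul, Polynomial.eval₂_C,
    Polynomial.eval₂_pow, Polynomial.eval₂_X, Polynomial.eval₂_sub, Polynomial.eval₂_one] at hid
  -- the right side vanishes by the root relation
  have hR : ∑ i ∈ range (r + 1 + 1), f (LambdaOps.lam i e) * (1 - ℓ - 1) ^ (r + 1 - i) = 0 := by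
    have h2 : ∀ i ∈ range (r + 1 + 1), f (LambdaOps.lam i e) * (1 - ℓ - 1) ^ (r + 1 - i) =
        (-1) ^ (r + 1) * (f ((-1 : K) ^ i * LambdaOps.lam i e) * ℓ ^ (r + 1 - i)) := by
      intro i hi
      have hi' : i ≤ r + 1 := Nat.lt_succ_iff.mp (mem_range.mp hi)
      have h3 : (1 - ℓ - 1 : L) = (-1) * ℓ := by ring
      have h4 : ((-1 : L)) ^ (r + 1 - i) = (-1) ^ (r + 1) * (-1) ^ i := by
        rw [← pow_add]
        have : r + 1 + i = (r + 1 - i) + 2 * i := by omega
        rw [this, pow_add, pow_mul, neg_one_sq, one_pow, mul_one]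
      rw [h3, mul_pow, h4, map_mul, map_pow, map_neg, map_one]
      ring
    rw [Finset.sum_congr rfl h2, ← Finset.mul_sum, hrel, mul_zero]
  rw [hR, Finset.sum_range_succ', gamma_zero, map_one, one_mul, Nat.sub_zero] at hid
  -- hid : Σ_{i<r+1} f(γ^{i+1}) (1-ℓ)^{r+1-(i+1)} + (1-ℓ)^{r+1} = 0
  refine ⟨fun i => (-(-1) ^ (r + 1) * (-1) ^ (r - i)) * gamma (i + 1) (e - ((r + 1 : ℕ) : K)), ?_, ?_⟩
  · intro i
    apply mul_mem_left
    apply gamma_mem_gammaFiltration P _ _ _ (by omega)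
    rw [map_sub, map_natCast, hr]
    push_cast
    ring
  · have h5 : (ℓ - 1) ^ (r + 1) = (-1) ^ (r + 1) * (1 - ℓ) ^ (r + 1) := by
      rw [← mul_pow]; congr 1; ring
    have h6 : (1 - ℓ) ^ (r + 1) =
        -∑ i ∈ range (r + 1), f (gamma (i + 1) (e - ((r + 1 : ℕ) : K))) * (1 - ℓ) ^ (r + 1 - (i + 1)) :=
      eq_neg_of_add_eq_zero_right hid
    rw [h5, h6, mul_neg, ← neg_mul, Finset.mul_sum]
    refine Finset.sum_congr rfl fun i _ => ?_
    have h7 : (1 - ℓ) ^ (r + 1 - (i + 1)) = (-1) ^ (r - i) * (ℓ - 1) ^ (r - i) := by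
      rw [← mul_pow, Nat.add_sub_add_right]; congr 1; ring
    rw [h7, map_mul, map_mul, map_neg, map_pow, map_pow, map_neg, map_one]
    ring

/-- the right-hand side of the statement. -/
def Rfil (P : PosStructure K) (f : K →+* L) (ℓ : L) (r k : ℕ) : AddSubgroup L :=
  ⨆ i ∈ Finset.range (r + 1), AddSubgroup.map
    ((AddMonoidHom.mulRight ((ℓ - 1) ^ i)).comp f.toAddMonoidHom) (gammaFiltration P (k - i))

omit [LambdaOps L] in
theorem mem_Rfil {r k i : ℕ} (hi : i ≤ r) {b : K} (hb : b ∈ gammaFiltration P (k - i)) :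
    f b * (ℓ - 1) ^ i ∈ Rfil P f ℓ r k := by
  unfold Rfil
  exact AddSubgroup.mem_iSup_of_mem i
    (AddSubgroup.mem_iSup_of_mem (Finset.mem_range.mpr (by omega)) ⟨b, hb, rfl⟩)

omit [LambdaOps L] in
/-- all generators of the candidate filtration lie in the right-hand side. -/
theorem gen_mem_Rfil (r k : ℕ) (c : ℕ → K) (hc : ∀ i, c i ∈ gammaFiltration P (i + 1))
    (hrel' : (ℓ - 1) ^ (r + 1) = ∑ i ∈ range (r + 1), f (c i) * (ℓ - 1) ^ (r - i)) :
    ∀ (i : ℕ) (b : K), b ∈ gammaFiltration P (k - i) → f b * (ℓ - 1) ^ i ∈ Rfil P f ℓ r k := by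
  intro i
  induction i using Nat.strong_induction_on with
  | _ i ih =>
    intro b hb
    by_cases hi : i ≤ r
    · exact mem_Rfil hi hb
    · have e1 : (ℓ - 1) ^ i = (ℓ - 1) ^ (i - (r + 1)) * (ℓ - 1) ^ (r + 1) := by
        rw [← pow_add]; congr 1; omega
      have e2 : f b * (ℓ - 1) ^ i =
          ∑ j ∈ range (r + 1), f (b * c j) * (ℓ - 1) ^ (i - 1 - j) := by
        rw [e1, hrel', Finset.mul_sum, Finset.mul_sum]
        refine Finset.sum_congr rfl fun j hj => ?_
        have hj' : j < r + 1 := mem_range.mp hj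
        have e3 : i - 1 - j = (i - (r + 1)) + (r - j) := by omega
        rw [e3, pow_add, map_mul]
        ring
      rw [e2]
      refine sum_mem fun j hj => ?_
      have hj' : j < r + 1 := mem_range.mp hj
      apply ih (i - 1 - j) (by omega)
      exact gammaFiltration_antitone P (by omega) (mul_mem P hb (hc j))

end Main

section Final

variable [LambdaOps L] {PL : PosStructure L}
variable {P f ℓ}

/-- the γ-filtration of an elementary extension. -/
theorem gammaFiltration_eq (hf : IsExtension P PL f) (hL : HasSplitting L PL) (hℓ : PL.IsLine ℓ)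
    (hgen : ∀ y : L, ∃ (a : ℕ → K) (d : ℕ), y = ∑ j ∈ range d, f (a j) * ℓ ^ j)
    (e : K) (he : e ∈ P.pos) (r : ℕ) (hr : P.aug e = r + 1)
    (hrel : ∑ i ∈ range ((P.aug e).toNat + 1),
      f ((-1 : K) ^ i * LambdaOps.lam i e) * ℓ ^ ((P.aug e).toNat - i) = 0) (k : ℕ) :
    gammaFiltration PL k = ⨆ i ∈ Finset.range (r + 1), AddSubgroup.map
      ((AddMonoidHom.mulRight ((ℓ - 1) ^ i)).comp f.toAddMonoidHom) (gammaFiltration P (k - i)) := by
  obtain ⟨c, hc, hrel'⟩ := exists_rel (f := f) (ℓ := ℓ) e he r hr hrel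
  apply le_antisymm
  · refine le_trans (gammaFiltration_le_Gfil hf hL hℓ hgen k) ?_
    rw [Gfil, AddSubgroup.closure_le]
    rintro y ⟨i, b, hb, rfl⟩
    exact gen_mem_Rfil r k c hc hrel' i b hb
  · refine iSup₂_le fun i _ => ?_
    rintro y ⟨b, hb, rfl⟩
    show f b * (ℓ - 1) ^ i ∈ gammaFiltration PL k
    have h1 := map_mem_gammaFiltration hf hb
    have h2 := pow_mem PL (sub_one_mem_gammaFiltration_one PL ℓ hℓ.2) i
    exact gammaFiltration_antitone PL (by omega) (mul_mem PL h1 h2)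

end Final

end Groth.Agent.Lib.Helper16.ElemExtFil
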