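import Groth.Agent.Lib.Helper16.ElemExtFil.Esymm
import Groth.Agent.Lib.Helper16.LambdaGamma
import Groth.Agent.Lib.Helper16.LambdaSplit
import Groth.Agent.Lib.Helper41.AdamsGamma
import Groth.Agent.Lib.Helper41.LambdaGammaSplit

/-!
# `γ^N(b·v - ε(b))` for `b` positive and `v` a line element (helper16)
-/

set_option autoImplicit false
universe u

namespace Groth.Agent.Lib.Helper16.ElemExtFil

open LambdaRing Finset
open Groth.Agent.Lib.Helper41.AdamsGamma Groth.Agent.Lib.Helper41.LambdaSplit
open Groth.Agent.Lib.Helper16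

variable {K : Type u} [CommRing K] [LambdaOps K] {P : PosStructure K}
variable {L : Type u} [CommRing L] [LambdaOps L] {PL : PosStructure L}
variable {f : K →+* L}

/-- `γ^N(f(b)·v - n) = Σ_i f(γ^i(b - n)) v^i (v-1)^{N-i} C(n-i, N-i)`, `n = ε(b)`, `b` positive, `v` a line. -/
theorem gamma_map_mul_line_sub (hf : IsExtension P PL f) (hL : HasSplitting L PL)
    (b : K) (hb : b ∈ P.pos) (v : L) (hv : PL.IsLine v) (N : ℕ) :
    gamma N (f b * v - ((P.aug b).toNat : L)) =
      ∑ i ∈ range (N + 1), f (gamma i (b - ((P.aug b).toNat : K))) * v ^ i * (v - 1) ^ (N - i) *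
        (((P.aug b).toNat - i).choose (N - i) : L) := by
  obtain ⟨L', g, hg, s, hs, hsum⟩ := split_one hL (f b) (hf.pos_subset b hb)
  set n := (P.aug b).toNat with hn
  have hnb : (n : ℤ) = P.aug b := Int.toNat_of_nonneg (P.aug_pos b hb).le
  have hcard : Multiset.card s = n := by
    have h1 := aug_sum_lines L'.posStr s hs
    rw [hsum, hg.aug_comp, hf.aug_comp, ← hnb] at h1
    exact_mod_cast h1.symm
  apply hg.injective
  -- left side
  have hlines : ∀ u ∈ s.map (fun u => u * g v), L'.posStr.IsLine u := by
    intro u hu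
    obtain ⟨w, hw, rfl⟩ := Multiset.mem_map.mp hu
    exact isLine_mul L'.posStr (hs w hw) (isLine_map hg hv)
  have hl : g (f b * v - (n : L)) =
      (s.map (fun u => u * g v)).sum - (Multiset.card (s.map (fun u => u * g v)) : L'.carrier) := by
    rw [Multiset.card_map, hcard, Multiset.sum_map_mul_right, Multiset.map_id', hsum, map_sub, map_mul,
      map_natCast]
  rw [gamma_map g hg.isLambdaHom, hl, gamma_multiset_sum_sub_card L'.posStr _ hlines N]
  have hmap : (s.map (fun u => u * g v)).map (fun w => w - 1) =
      (s.map (fun w => w - 1)).map (fun x => x * g v + (g v - 1)) := by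
    rw [Multiset.map_map, Multiset.map_map]
    apply Multiset.map_congr rfl
    intro u _
    simp only [Function.comp_apply]
    ring
  rw [hmap, esymm_map_mul_add, Multiset.card_map, hcard, map_sum]
  refine Finset.sum_congr rfl fun i _ => ?_
  have hi : (s.map (fun w => w - 1)).esymm i = g (f (gamma i (b - (n : K)))) := by
    rw [← gamma_multiset_sum_sub_card L'.posStr s hs i, hcard, hsum,
      gamma_map f hf.isLambdaHom, gamma_map g hg.isLambdaHom, map_sub, map_sub, map_natCast, map_natCast]
  rw [hi, map_mul, map_mul, map_mul, map_pow, map_pow, map_sub, map_one, map_natCast]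

end Groth.Agent.Lib.Helper16.ElemExtFil
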